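import Groth.Prelude.Def_W4c5modbuncurvesppStab
import Mathlib.Data.Real.Archimedean
import Mathlib.Tactic

/-!
# Stability of sheaf data on dual graphs: the slack function and flows
-/

namespace Groth.Agent.PhiStabLib

open Finset LabGraph PhiStab

universe u

variable {V E : Type u} [Fintype V] [Fintype E] [DecidableEq V] [DecidableEq E] {ends : E → V × V}

/-- Adjacency inside a vertex set. -/
def RIn (ends : E → V × V) (S : Finset V) (a b : V) : Prop :=
  Relation.ReflTransGen (fun x y => LabGraph.Adj ends x y ∧ x ∈ S ∧ y ∈ S) a b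

/-- A nonempty vertex set, connected inside itself. -/
def Conn (ends : E → V × V) (S : Finset V) : Prop :=
  S.Nonempty ∧ ∀ a ∈ S, ∀ b ∈ S, RIn ends S a b

omit [Fintype V] [Fintype E] [DecidableEq V] [DecidableEq E] in
lemma rin_symm {S : Finset V} {a b : V} (h : RIn ends S a b) : RIn ends S b a := by
  induction h with
  | refl => exact Relation.ReflTransGen.refl
  | tail _ hs ih =>
    obtain ⟨⟨e, he⟩, hx, hy⟩ := hs
    exact Relation.ReflTransGen.head ⟨⟨e, he.symm⟩, hy, hx⟩ ih

lemma connected_indEnds_iff (S : Finset V) : LabGraph.Connected (indEnds ends S) ↔ Conn ends S := by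
  constructor
  · rintro ⟨⟨v⟩, h⟩
    refine ⟨⟨v, v.2⟩, fun a ha b hb => ?_⟩
    refine (h ⟨a, ha⟩ ⟨b, hb⟩).lift (fun x : {v // v ∈ S} => (x : V)) fun x y hxy => ?_
    obtain ⟨e, he⟩ := hxy
    refine ⟨⟨e.1, ?_⟩, x.2, y.2⟩
    rcases he with he | he
    · exact Or.inl (Prod.ext (congrArg (fun p => (p.1 : V)) he) (congrArg (fun p => (p.2 : V)) he))
    · exact Or.inr (Prod.ext (congrArg (fun p => (p.1 : V)) he) (congrArg (fun p => (p.2 : V)) he))
  · rintro ⟨hne, h⟩
    refine ⟨hne.to_subtype, fun a b => ?_⟩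
    have key : ∀ z, RIn ends S a z → ∀ hz : z ∈ S,
        Relation.ReflTransGen (LabGraph.Adj (indEnds ends S)) a ⟨z, hz⟩ := by
      intro z hz
      induction hz with
      | refl => exact fun _ => Relation.ReflTransGen.refl
      | @tail y w _ hs ih =>
        intro hw
        obtain ⟨⟨e, he⟩, hy, -⟩ := hs
        refine (ih hy).tail ?_
        rcases he with he | he
        · exact ⟨⟨e, by simp [PhiStab.inner, he, hy, hw]⟩, Or.inl (Prod.ext (Subtype.ext (by simp [indEnds, he]))
            (Subtype.ext (by simp [indEnds, he])))⟩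
        · exact ⟨⟨e, by simp [PhiStab.inner, he, hy, hw]⟩, Or.inr (Prod.ext (Subtype.ext (by simp [indEnds, he]))
            (Subtype.ext (by simp [indEnds, he])))⟩
    exact key b (h a a.2 b b.2) b.2

/-- The contribution of one edge to the slack. -/
noncomputable def wgt (ends : E → V × V) (N : Finset E) (S : Finset V) (e : E) : ℝ :=
  (if e ∈ N ∧ (ends e).1 ∈ S ∧ (ends e).2 ∈ S then 1 else 0) +
  (if ((ends e).1 ∈ S ∧ (ends e).2 ∉ S) ∨ ((ends e).1 ∉ S ∧ (ends e).2 ∈ S) then 1 else 0) / 2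

/-- The slack in the stability inequality. -/
noncomputable def slack (ends : E → V × V) (φ : V → ℝ) (m : V → ℤ) (N : Finset E) (S : Finset V) : ℝ :=
  (degOn ends m N S : ℝ) - ((∑ v ∈ S, φ v) - (LabGraph.cut ends S : ℝ) / 2)

variable (φ : V → ℝ) (m : V → ℤ) (N : Finset E)

lemma slack_eq (S : Finset V) :
    slack ends φ m N S = ∑ v ∈ S, ((m v : ℝ) - φ v) + ∑ e, wgt ends N S e := by
  have h1 : ((N ∩ inner ends S).card : ℝ) =
      ∑ e, (if e ∈ N ∧ (ends e).1 ∈ S ∧ (ends e).2 ∈ S then (1 : ℝ) else 0) := by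
    rw [Finset.sum_boole]
    congr 2
    ext e
    simp [PhiStab.inner]
  have h2 : (LabGraph.cut ends S : ℝ) = ∑ e,
      (if ((ends e).1 ∈ S ∧ (ends e).2 ∉ S) ∨ ((ends e).1 ∉ S ∧ (ends e).2 ∈ S) then (1 : ℝ) else 0) := by
    rw [Finset.sum_boole]; rfl
  simp only [slack, degOn, wgt, Finset.sum_add_distrib, ← Finset.sum_div, ← h1, ← h2, Finset.sum_sub_distrib]
  push_cast
  ring

lemma slack_empty : slack ends φ m N ∅ = 0 := by simp [slack_eq, wgt]

lemma slack_univ (hdeg : (∑ v : V, φ v) = (totDeg m N : ℝ)) : slack ends φ m N univ = 0 := by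
  have : ∑ e, wgt ends N univ e = (N.card : ℝ) := by simp [wgt]
  rw [slack_eq, this, Finset.sum_sub_distrib, hdeg, totDeg]
  push_cast
  ring

lemma slack_modular (A B : Finset V)
    (h : ∀ a b, LabGraph.Adj ends a b → a ∈ A → a ∉ B → b ∈ B → b ∉ A → False) :
    slack ends φ m N A + slack ends φ m N B = slack ends φ m N (A ∪ B) + slack ends φ m N (A ∩ B) := by
  simp only [slack_eq]
  rw [add_add_add_comm, add_add_add_comm (∑ v ∈ A ∪ B, ((m v : ℝ) - φ v)), Finset.sum_union_inter,
    ← Finset.sum_add_distrib, ← Finset.sum_add_distrib]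
  congr 1
  refine Finset.sum_congr rfl fun e _ => ?_
  have e1 := h (ends e).1 (ends e).2 ⟨e, Or.inl rfl⟩
  have e2 := h (ends e).2 (ends e).1 ⟨e, Or.inr rfl⟩
  by_cases h1 : (ends e).1 ∈ A <;> by_cases h2 : (ends e).1 ∈ B <;>
    by_cases h3 : (ends e).2 ∈ A <;> by_cases h4 : (ends e).2 ∈ B <;>
    simp_all [wgt] <;> ring

/-- A connected graph: a failing subset gives a failing elementary one. -/
lemma exists_bad_elementary (hconn : LabGraph.Connected ends) (hdeg : (∑ v : V, φ v) = (totDeg m N : ℝ))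
    (bad : ℝ → Prop) (hbad : ∀ a b, bad (a + b) → bad a ∨ bad b)
    {S : Finset V} (hS : S.Nonempty) (hS' : S ≠ univ) (hb : bad (slack ends φ m N S)) :
    ∃ T, IsElementary ends T ∧ bad (slack ends φ m N T) := by
  classical
  obtain ⟨S₁, hS₁, hmin⟩ := (univ.filter fun T : Finset V =>
      T.Nonempty ∧ T ≠ univ ∧ bad (slack ends φ m N T)).exists_min_image Finset.card
    ⟨S, by simp [hS, hS', hb]⟩
  simp only [mem_filter, mem_univ, true_and] at hS₁ hmin
  have hc : Conn ends S₁ := by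
    refine ⟨hS₁.1, fun a ha b hb' => ?_⟩
    by_contra hno
    let A := S₁.filter fun v => RIn ends S₁ a v
    let B := S₁.filter fun v => ¬ RIn ends S₁ a v
    have hmod := slack_modular φ m N A B (ends := ends) fun x y hxy hxA _ hyB _ => by
      simp only [A, B, mem_filter] at hxA hyB
      exact hyB.2 (hxA.2.tail ⟨hxy, hxA.1, hyB.1⟩)
    rw [show A ∪ B = S₁ from Finset.filter_union_filter_not_eq _ _,
      show A ∩ B = ∅ from Finset.disjoint_iff_inter_eq_empty.mp (disjoint_filter_filter_not S₁ S₁ _), slack_empty, add_zero] at hmod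
    have hA : A ⊂ S₁ := Finset.filter_ssubset.mpr ⟨b, hb', hno⟩
    have hB : B ⊂ S₁ := Finset.filter_ssubset.mpr ⟨a, ha, not_not_intro Relation.ReflTransGen.refl⟩
    have hne : ∀ T, T ⊂ S₁ → T ≠ univ := fun T hT e => hS₁.2.1 (eq_univ_iff_forall.mpr fun v =>
      hT.subset (e ▸ mem_univ v))
    rcases hbad _ _ (hmod ▸ hS₁.2.2) with h | h
    · exact absurd (hmin A ⟨⟨a, mem_filter.mpr ⟨ha, Relation.ReflTransGen.refl⟩⟩, hne A hA, h⟩)
        (not_le.mpr (card_lt_card hA))
    · exact absurd (hmin B ⟨⟨b, mem_filter.mpr ⟨hb', hno⟩⟩, hne B hB, h⟩) (not_le.mpr (card_lt_card hB))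
  obtain ⟨T, hT, hmax⟩ := (univ.filter fun T : Finset V =>
      Conn ends T ∧ T ≠ univ ∧ bad (slack ends φ m N T)).exists_max_image Finset.card
    ⟨S₁, by simp [hc, hS₁.2.1, hS₁.2.2]⟩
  simp only [mem_filter, mem_univ, true_and] at hT hmax
  refine ⟨T, ⟨(connected_indEnds_iff T).mpr hT.1, (connected_indEnds_iff Tᶜ).mpr ?_⟩, hT.2.2⟩
  refine ⟨nonempty_iff_ne_empty.mpr fun h => hT.2.1 (by rwa [compl_eq_empty_iff] at h), fun a ha b hb' => ?_⟩
  by_contra hno
  let A' := Tᶜ.filter fun v => RIn ends Tᶜ a v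
  let B' := Tᶜ.filter fun v => ¬ RIn ends Tᶜ a v
  have hsep : ∀ x y, LabGraph.Adj ends x y → x ∈ A' → y ∈ B' → False := fun x y hxy hx hy => by
    simp only [A', B', mem_filter] at hx hy
    exact hy.2 (hx.2.tail ⟨hxy, hx.1, hy.1⟩)
  have hmod := slack_modular φ m N A'ᶜ B'ᶜ (ends := ends) fun x y hxy hxA hxB hyB hyA => by
    simp only [mem_compl, not_not] at hxA hxB hyB hyA
    exact hsep y x (hxy.imp fun _ h => h.symm) hyA hxB
  have hun : A'ᶜ ∪ B'ᶜ = univ := by ext v; simp [A', B']; tauto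
  have hin : A'ᶜ ∩ B'ᶜ = T := by ext v; simp [A', B']; tauto
  rw [hun, hin, slack_univ φ m N hdeg, zero_add] at hmod
  have hkey : ∀ C : Finset V, T ⊂ C →
      (∀ x y, LabGraph.Adj ends x y → x ∈ C → x ∉ T → y ∈ C) → Conn ends C := by
    intro C hC hclosed
    obtain ⟨t, ht⟩ := hT.1.1
    have htoT : ∀ v ∈ C, RIn ends C v t := by
      intro v hv
      have hreach := hconn.2 v t
      induction hreach using Relation.ReflTransGen.head_induction_on with
      | refl => exact Relation.ReflTransGen.refl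
      | @head x y hxy _ ih =>
        by_cases hxT : x ∈ T
        · exact Relation.ReflTransGen.mono (fun p q h => ⟨h.1, hC.subset h.2.1, hC.subset h.2.2⟩) _ _
            (hT.1.2 x hxT t ht)
        · exact (ih (hclosed x y hxy hv hxT)).head ⟨hxy, hv, hclosed x y hxy hv hxT⟩
    exact ⟨⟨t, hC.subset ht⟩, fun x hx y hy => (htoT x hx).trans (rin_symm (htoT y hy))⟩
  have hbig : ∀ C : Finset V, T ⊆ C → ∀ v, v ∈ C → v ∉ T → T ⊂ C := fun C h v hv hv' =>
    (ssubset_iff_of_subset h).mpr ⟨v, hv, hv'⟩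
  have haT : a ∉ T := mem_compl.mp ha
  have hbT : b ∉ T := mem_compl.mp hb'
  rcases hbad _ _ (hmod ▸ hT.2.2) with h | h
  · have hs : T ⊂ A'ᶜ := hbig _ (fun v hv => by simp [A', hv]) b (by simp [A', hno]) hbT
    refine absurd (hmax A'ᶜ ⟨hkey _ hs fun x y hxy hx hxT => ?_, ?_, h⟩) (not_le.mpr (card_lt_card hs))
    · by_contra hy
      simp only [mem_compl, not_not] at hy
      exact hsep y x (hxy.imp fun _ h => h.symm) hy (mem_filter.mpr ⟨mem_compl.mpr hxT, fun hr =>
        mem_compl.mp hx (mem_filter.mpr ⟨mem_compl.mpr hxT, hr⟩)⟩)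
    · intro e
      have : a ∈ A'ᶜ := e ▸ mem_univ a
      exact mem_compl.mp this (mem_filter.mpr ⟨ha, Relation.ReflTransGen.refl⟩)
  · have hs : T ⊂ B'ᶜ := hbig _ (fun v hv => by simp [B', hv]) a
      (by simp only [B', mem_compl, mem_filter, not_and, not_not]; exact fun _ => Relation.ReflTransGen.refl) haT
    refine absurd (hmax B'ᶜ ⟨hkey _ hs fun x y hxy hx hxT => ?_, ?_, h⟩) (not_le.mpr (card_lt_card hs))
    · by_contra hy
      simp only [mem_compl, not_not] at hy
      have hxA : x ∈ A' := mem_filter.mpr ⟨mem_compl.mpr hxT, by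
        by_contra hr
        exact mem_compl.mp hx (mem_filter.mpr ⟨mem_compl.mpr hxT, hr⟩)⟩
      exact hsep x y hxy hxA hy
    · intro e
      have : b ∈ B'ᶜ := e ▸ mem_univ b
      exact mem_compl.mp this (mem_filter.mpr ⟨hb', hno⟩)

/-- The real boundary of an edge vector. -/
noncomputable def bd (ends : E → V × V) : (E → ℝ) →ₗ[ℝ] (V → ℝ) where
  toFun x v := ∑ e, x e * ((if (ends e).2 = v then 1 else 0) - (if (ends e).1 = v then 1 else 0))
  map_add' x y := by funext v; simp [add_mul, sum_add_distrib]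
  map_smul' c x := by funext v; simp [mul_sum, mul_assoc]

lemma exists_flow (T : Finset E) (r : V)
    (hT : ∀ v, Relation.ReflTransGen (LabGraph.Adj (spanEnds ends T)) r v) (a : V → ℝ) (ha : ∑ v, a v = 0) :
    ∃ x : E → ℝ, (∀ e ∉ T, x e = 0) ∧ bd ends x = a := by
  let P : Submodule ℝ (E → ℝ) := Submodule.pi Set.univ fun e => if e ∈ T then ⊤ else ⊥
  have key : ∀ v, (Pi.single v 1 - Pi.single r 1 : V → ℝ) ∈ P.map (bd ends) := by
    intro v
    induction hT v with
    | refl => rw [sub_self]; exact zero_mem _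
    | @tail y w _ hs ih =>
      obtain ⟨⟨e, he⟩, h⟩ := hs
      have hmem : ∀ c : ℝ, (fun f => if f = e then c else 0) ∈ P := fun c f _ => by
        by_cases hf : f = e
        · subst hf; simp [he]
        · by_cases hfT : f ∈ T <;> simp [hf, hfT]
      have hb : ∀ c : ℝ, bd ends (fun f => if f = e then c else 0) =
          c • ((Pi.single (ends e).2 1 : V → ℝ) - Pi.single (ends e).1 1) := by
        intro c
        funext z
        simp [bd, Pi.single_apply, eq_comm]
      rcases h with h | h <;> simp only [spanEnds] at h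
      · have := Submodule.mem_map_of_mem (f := bd ends) (hmem 1)
        rw [hb, h, one_smul] at this
        simpa using add_mem ih this
      · have := Submodule.mem_map_of_mem (f := bd ends) (hmem (-1))
        rw [hb, h, neg_one_smul, neg_sub] at this
        simpa using add_mem ih this
  have ha' : a = ∑ v, a v • ((Pi.single v 1 : V → ℝ) - Pi.single r 1) := by
    funext z
    simp [Pi.single_apply, Finset.sum_sub_distrib, mul_sub, ← Finset.sum_mul, ha]
  obtain ⟨x, hx, hxa⟩ : a ∈ P.map (bd ends) := by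
    rw [ha']
    exact Submodule.sum_mem _ fun v _ => Submodule.smul_mem _ _ (key v)
  refine ⟨x, fun e he => ?_, hxa⟩
  simpa [he] using hx e (Set.mem_univ e)

/-- On a spanning connected edge set, a datum singular exactly outside it whose slacks are edgewise bounded. -/
lemma exists_datum (T : Finset E) (r : V)
    (hT : ∀ v, Relation.ReflTransGen (LabGraph.Adj (spanEnds ends T)) r v) (b : ℤ) (hφ : ∑ v, φ v = (b : ℝ)) :
    ∃ m : V → ℤ, totDeg m Tᶜ = b ∧ ∃ y : E → ℝ, (∀ e, |y e| ≤ 1 / 2) ∧ ∀ S : Finset V,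
      slack ends φ m Tᶜ S = ∑ e ∈ T,
        (if ((ends e).1 ∈ S ∧ (ends e).2 ∉ S) ∨ ((ends e).1 ∉ S ∧ (ends e).2 ∈ S) then
          1 / 2 + y e * ((if (ends e).2 ∈ S then 1 else 0) - (if (ends e).1 ∈ S then 1 else 0)) else 0) := by
  let endN : V → ℝ := fun v => ∑ e ∈ Tᶜ, ((if (ends e).1 = v then 1 else 0) + (if (ends e).2 = v then 1 else 0))
  let m₀ : V → ℤ := Pi.single r (b - (Tᶜ.card : ℤ))
  obtain ⟨x, hx0, hx⟩ := exists_flow T r hT (fun v => (m₀ v : ℝ) - φ v + endN v / 2) (by
    have h1 : ∑ v, endN v = 2 * (Tᶜ.card : ℝ) := by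
      simp only [endN]; rw [Finset.sum_comm]
      simp [Finset.sum_add_distrib, two_mul]
    have h2 : ∑ v, (m₀ v : ℝ) = (b : ℝ) - (Tᶜ.card : ℝ) := by
      rw [← Int.cast_sum]; simp [m₀, Finset.sum_pi_single']
    rw [Finset.sum_add_distrib, Finset.sum_sub_distrib, ← Finset.sum_div, h1, h2, hφ]
    ring)
  let z : V → ℤ := fun v =>
    ∑ e, round (x e) * ((if (ends e).2 = v then 1 else 0) - (if (ends e).1 = v then 1 else 0))
  refine ⟨fun v => m₀ v - z v, ?_, fun e => x e - round (x e), fun e => abs_sub_round _, fun S => ?_⟩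
  · have hz : ∑ v, z v = 0 := by
      simp only [z]; rw [Finset.sum_comm]
      simp [← Finset.mul_sum]
    simp only [totDeg, Finset.sum_sub_distrib, hz, sub_zero]
    simp [m₀, Finset.sum_pi_single']
  · have hv : ∀ v, ((m₀ v - z v : ℤ) : ℝ) - φ v = bd ends (fun e => x e - round (x e)) v - endN v / 2 := by
      intro v
      have h1 := congrFun hx v
      rw [show (fun e => x e - (round (x e) : ℝ)) = x - fun e => (round (x e) : ℝ) from rfl, map_sub,
        Pi.sub_apply, h1]
      simp only [z, bd, LinearMap.coe_mk, AddHom.coe_mk, Int.cast_sub, Int.cast_sum, Int.cast_mul,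
        apply_ite (Int.cast (R := ℝ)), Int.cast_one, Int.cast_zero]
      ring
    rw [slack_eq, Finset.sum_congr rfl fun v _ => hv v, Finset.sum_sub_distrib]
    simp only [endN, bd, LinearMap.coe_mk, AddHom.coe_mk, ← Finset.sum_div]
    rw [Finset.sum_comm, Finset.sum_comm (s := S) (t := Tᶜ)]
    simp only [← Finset.mul_sum, Finset.sum_add_distrib, Finset.sum_sub_distrib, Finset.sum_ite_eq]
    rw [← Finset.sum_add_distrib, Finset.sum_div, ← Finset.univ_inter Tᶜ, ← Finset.sum_ite_mem,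
      ← Finset.sum_sub_distrib, ← Finset.sum_add_distrib, ← Finset.univ_inter T, ← Finset.sum_ite_mem]
    refine Finset.sum_congr rfl fun e _ => ?_
    by_cases he : e ∈ T
    · by_cases h1 : (ends e).1 ∈ S <;> by_cases h2 : (ends e).2 ∈ S <;> simp [wgt, he, h1, h2] <;> ring
    · by_cases h1 : (ends e).1 ∈ S <;> by_cases h2 : (ends e).2 ∈ S <;>
        simp [wgt, he, h1, h2, hx0 e he] <;> ring

end Groth.Agent.PhiStabLib
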