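import Groth.Agent.PhiStabLib.Basic
import Groth.Agent.GraphCochain.Basic

/-!
# Sides of tree edges
-/

namespace Groth.Agent.PhiStabLib

open Finset LabGraph PhiStab

universe u

variable {V E : Type u} [Fintype V] [Fintype E] [DecidableEq V] [DecidableEq E] {ends : E → V × V}

lemma adj_spanEnds (T : Finset E) :
    LabGraph.Adj (spanEnds ends T) = MatTree.AdjS ends T := by
  funext a b; simp only [LabGraph.Adj, spanEnds, MatTree.AdjS, Subtype.exists, exists_prop]

lemma mem_side {e : E} {v : V} :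
    v ∈ side ends e ↔ MatTree.Reach ends (univ.erase e) (ends e).1 v := by
  simp [side, adj_spanEnds, MatTree.Reach]

lemma tail_mem_side (e : E) : (ends e).1 ∈ side ends e := mem_side.mpr Relation.ReflTransGen.refl

lemma head_notMem_side (hT : DualGr.IsForest ends) (e : E) : (ends e).2 ∉ side ends e := fun h => by
  obtain ⟨C, -, hC⟩ := GraphCochain.exists_circuit_of_reach (notMem_erase e univ) (mem_side.mp h)
  exact hT C hC

lemma side_iff {e f : E} (hf : f ≠ e) : (ends f).1 ∈ side ends e ↔ (ends f).2 ∈ side ends e := by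
  simp only [mem_side]
  exact ⟨fun h => h.tail (MatTree.adjS_ends (by simp [hf])),
    fun h => h.tail (MatTree.adjS_symm (MatTree.adjS_ends (by simp [hf])))⟩

lemma sum_bd (x : E → ℝ) (S : Finset V) :
    ∑ v ∈ S, bd ends x v =
      ∑ e, x e * ((if (ends e).2 ∈ S then 1 else 0) - (if (ends e).1 ∈ S then 1 else 0)) := by
  simp only [bd, LinearMap.coe_mk, AddHom.coe_mk]
  rw [Finset.sum_comm]
  simp [← Finset.mul_sum, Finset.sum_sub_distrib]

lemma sum_bd_side (hT : DualGr.IsForest ends) (x : E → ℝ) (e : E) :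
    ∑ v ∈ side ends e, bd ends x v = -x e := by
  rw [sum_bd, Finset.sum_eq_single e]
  · rw [if_neg (head_notMem_side hT e), if_pos (tail_mem_side e)]; ring
  · intro f _ hf
    by_cases h : (ends f).1 ∈ side ends e
    · rw [if_pos h, if_pos ((side_iff hf).mp h)]; ring
    · rw [if_neg h, if_neg fun h' => h ((side_iff hf).mpr h')]; ring
  · intro h; exact absurd (mem_univ e) h

lemma exists_flow_univ (hc : LabGraph.Connected ends) (a : V → ℝ) (ha : ∑ v, a v = 0) :
    ∃ x : E → ℝ, bd ends x = a := by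
  obtain ⟨r⟩ := hc.1
  obtain ⟨x, -, hx⟩ := exists_flow (ends := ends) univ r (fun v => by
    rw [adj_spanEnds]; exact MatTree.spans_univ hc r v) a ha
  exact ⟨x, hx⟩

/-- A zero sum vertex function vanishing on every side is zero. -/
lemma eq_zero_of_sides (hT : DualGr.IsTree ends) (ψ : V → ℝ) (h0 : ∑ v, ψ v = 0)
    (hs : ∀ e, ∑ v ∈ side ends e, ψ v = 0) : ψ = 0 := by
  obtain ⟨x, hx⟩ := exists_flow_univ hT.1 ψ h0
  have : x = 0 := funext fun e => by
    have h1 := sum_bd_side hT.2 x e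
    rw [hx, hs e] at h1
    simpa using h1.symm
  rw [← hx, this, map_zero]

lemma existsUnique_sides (hT : DualGr.IsTree ends) (c : E → ℝ) (c₀ : ℝ) :
    ∃! φ : V → ℝ, (∀ e : E, (∑ v ∈ side ends e, φ v) = c e) ∧ (∑ v : V, φ v) = c₀ := by
  obtain ⟨r⟩ := hT.1.1
  refine ⟨bd ends (fun e => (if r ∈ side ends e then c₀ else 0) - c e) + Pi.single r c₀,
    ⟨fun e => ?_, ?_⟩, fun φ hφ => ?_⟩
  · simp only [Pi.add_apply, Finset.sum_add_distrib, sum_bd_side hT.2, Finset.sum_pi_single']
    ring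
  · simp only [Pi.add_apply, Finset.sum_add_distrib, sum_bd, Finset.sum_pi_single']
    simp
  · refine sub_eq_zero.mp (eq_zero_of_sides hT _ ?_ fun e => ?_)
    · simp only [Pi.sub_apply, Finset.sum_sub_distrib, hφ.2, Pi.add_apply, Finset.sum_add_distrib, sum_bd,
        Finset.sum_pi_single']
      simp
    · simp only [Pi.sub_apply, Finset.sum_sub_distrib, hφ.1, Pi.add_apply, Finset.sum_add_distrib,
        sum_bd_side hT.2, Finset.sum_pi_single']
      ring

lemma slack_add_compl (φ : V → ℝ) (m : V → ℤ) (N : Finset E) (hdeg : (∑ v : V, φ v) = (totDeg m N : ℝ))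
    (S : Finset V) :
    slack ends φ m N S + slack ends φ m N Sᶜ =
      ((univ.filter fun e : E => e ∉ N ∧ (((ends e).1 ∈ S ∧ (ends e).2 ∉ S) ∨
        ((ends e).1 ∉ S ∧ (ends e).2 ∈ S))).card : ℝ) := by
  rw [slack_eq, slack_eq, add_add_add_comm, Finset.sum_add_sum_compl, ← Finset.sum_add_distrib,
    Finset.sum_sub_distrib, hdeg, ← Finset.sum_boole]
  have h2 : ∑ e, (wgt ends N S e + wgt ends N Sᶜ e) = (N.card : ℝ) + ∑ e : E,
      (if e ∉ N ∧ (((ends e).1 ∈ S ∧ (ends e).2 ∉ S) ∨ ((ends e).1 ∉ S ∧ (ends e).2 ∈ S)) then (1 : ℝ) else 0) := by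
    rw [show (N.card : ℝ) = ∑ e : E, (if e ∈ N then (1 : ℝ) else 0) by simp, ← Finset.sum_add_distrib]
    refine Finset.sum_congr rfl fun e _ => ?_
    by_cases he : e ∈ N <;> by_cases h1 : (ends e).1 ∈ S <;> by_cases h3 : (ends e).2 ∈ S <;>
      simp [wgt, he, h1, h3] <;> ring
  rw [h2, totDeg]
  push_cast
  ring

end Groth.Agent.PhiStabLib
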